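import Groth.Agent.RelExtLib.Shift
import Groth.Agent.ModSiteLib.PullFlat
import Groth.Agent.ModSiteLib.FreeGen
import Groth.Agent.ModSiteLib.SheafHomColim
import Groth.Prelude.Def_ExtSupp
import Mathlib.CategoryTheory.Abelian.RightDerived

/-!
# Relative sheaf Ext `R^p(f_* Hom(M, -))` as a functor of `M`
-/

set_option autoImplicit false
set_option linter.unusedSectionVars false
set_option linter.style.haveILetI false
set_option backward.isDefEq.respectTransparency false
set_option backward.isDefEq.respectTransparency.types false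

universe u

open CategoryTheory Limits Opposite HomologicalComplex
open Groth.Agent.ModSiteLib Groth.Agent.ModSiteLib.SetPull _root_.ModSiteLib

namespace Groth.Agent.RelExtLib

variable {C : Type u} [SmallCategory C] {J : GrothendieckTopology C} {O : Sheaf J CommRingCat.{u}}
  {D : Type u} [SmallCategory D] {K : GrothendieckTopology D} {O_D : Sheaf K CommRingCat.{u}}
  (f : ModSite.RMor O O_D)

attribute [local instance] hasSheafHom

/-- `f_* Hom(M, -)`. -/
noncomputable abbrev homPush (M : ModSite.Mod O) : ModSite.Mod O ⥤ ModSite.Mod O_D :=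
  ModSite.sheafHom M ⋙ f.push

instance preservesFiniteLimits_homPush (M : ModSite.Mod O) : PreservesFiniteLimits (homPush f M) := by
  haveI : PreservesLimitsOfSize.{0, 0} f.push := f.adj.rightAdjoint_preservesLimits
  haveI : PreservesLimitsOfSize.{0, 0} (ModSite.sheafHom M) :=
    (ModSite.sheafHomAdj M).rightAdjoint_preservesLimits
  haveI : PreservesFiniteLimits f.push := inferInstance
  haveI : PreservesFiniteLimits (ModSite.sheafHom M) := inferInstance
  exact comp_preservesFiniteLimits _ _

/-- Contravariance. -/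
noncomputable abbrev homPushMap {A B : ModSite.Mod O} (g : A ⟶ B) : homPush f B ⟶ homPush f A :=
  Functor.whiskerRight (ExtSupp.sheafHomMap g) f.push

/-- `f_* Hom(-, P)`. -/
noncomputable abbrev homPushOp (P : ModSite.Mod O) : (ModSite.Mod O)ᵒᵖ ⥤ ModSite.Mod O_D :=
  sheafHomBi O ⋙ (evaluation _ _).obj P ⋙ f.push

instance preservesFiniteLimits_homPushOp (P : ModSite.Mod O) : PreservesFiniteLimits (homPushOp f P) := by
  haveI := preservesFiniteLimits_sheafHomBi O
  haveI : PreservesLimitsOfSize.{0, 0} f.push := f.adj.rightAdjoint_preservesLimits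
  haveI : PreservesFiniteLimits f.push := inferInstance
  haveI : PreservesFiniteLimits ((evaluation (ModSite.Mod O) (ModSite.Mod O)).obj P ⋙ f.push) :=
    comp_preservesFiniteLimits _ _
  exact comp_preservesFiniteLimits _ _

instance additive_homPushOp (P : ModSite.Mod O) : (homPushOp f P).Additive := by
  haveI := preservesFiniteLimits_homPushOp f P
  haveI : PreservesLimitsOfShape (Discrete PEmpty.{1}) (homPushOp f P) := inferInstance
  haveI : (homPushOp f P).PreservesZeroMorphisms :=
    Functor.preservesZeroMorphisms_of_preserves_terminal_object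
  haveI := preservesBinaryBiproducts_of_preservesBinaryProducts (homPushOp f P)
  exact Functor.additive_of_preservesBinaryBiproducts _

theorem homPushMap_app {A B : ModSite.Mod O} (g : A ⟶ B) (P : ModSite.Mod O) :
    (homPushMap f g).app P = (homPushOp f P).map g.op := rfl

theorem homPushMap_comp_app {A B E : ModSite.Mod O} (g : A ⟶ B) (h : B ⟶ E) (P : ModSite.Mod O) :
    (homPushMap f h).app P ≫ (homPushMap f g).app P = (homPushMap f (g ≫ h)).app P :=
  ((homPushOp f P).map_comp h.op g.op).symm

/-- Precomposition with a monomorphism is surjective on maps to an injective. -/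
theorem epi_homPushMap_app {A B : ModSite.Mod O} (g : A ⟶ B) [Mono g] (I : ModSite.Mod O) [Injective I] :
    Epi ((homPushMap f g).app I) := by
  refine epi_of_loc_surjective _ fun V t => Loc.of_forall fun V' k => ?_
  let t' : Sec (f.push.obj ((ModSite.sheafHom A).obj I)) V' :=
    res ((jP O_D).obj (f.push.obj ((ModSite.sheafHom A).obj I))) k.op t
  obtain ⟨a, ha⟩ : ∃ a : genMod (O := O_D) (fun _ : PUnit.{u + 1} => V') ⟶
      f.push.obj ((ModSite.sheafHom A).obj I), ap a V' (genSec (fun _ : PUnit.{u + 1} => V') PUnit.unit) = t' := by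
    obtain ⟨a, ha⟩ := (isGenA_genSec (O := O_D) (obj := fun _ : PUnit.{u + 1} => V')
      (f.push.obj ((ModSite.sheafHom A).obj I))).2 fun _ => t'
    exact ⟨a, congrFun ha PUnit.unit⟩
  let P := f.pull.obj (genMod (O := O_D) (fun _ : PUnit.{u + 1} => V'))
  let b : P ⟶ (ModSite.sheafHom A).obj I := (f.adj.homEquiv _ _).symm a
  let c : ((ModSite.tensorBi O).obj P).obj A ⟶ I := ((ModSite.sheafHomAdj A).homEquiv P I).symm b
  haveI := preservesMono_of_isFlat (isFlat_pull f (isFlat_genMod (O := O_D) (fun _ : PUnit.{u + 1} => V')))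
  let c' : ((ModSite.tensorBi O).obj P).obj B ⟶ I := Injective.factorThru c (((ModSite.tensorBi O).obj P).map g)
  let b' : P ⟶ (ModSite.sheafHom B).obj I := (ModSite.sheafHomAdj B).homEquiv P I c'
  have hb : b' ≫ (ExtSupp.sheafHomMap g).app I = b := by
    apply ((ModSite.sheafHomAdj A).homEquiv P I).symm.injective
    have h := ConcreteCategory.congr_hom ((sheafHomBiCoyonedaIso O P I).hom.naturality g.op) b'
    refine h.trans ?_
    show ((ModSite.tensorBi O).obj P).map g ≫ ((ModSite.sheafHomAdj B).homEquiv P I).symm b' = c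
    rw [Equiv.symm_apply_apply]
    exact Injective.comp_factorThru _ _
  let a' := f.adj.homEquiv _ _ b'
  refine ⟨ap a' V' (genSec (fun _ : PUnit.{u + 1} => V') PUnit.unit), ?_⟩
  refine (ap_comp a' (f.push.map ((ExtSupp.sheafHomMap g).app I)) V' _).symm.trans ?_
  have : a' ≫ f.push.map ((ExtSupp.sheafHomMap g).app I) = a := by
    rw [← f.adj.homEquiv_naturality_right, hb]
    exact Equiv.apply_symm_apply _ _
  rw [this]
  exact ha

/-- The sequence of `f_* Hom(-, P)`. -/
noncomputable abbrev homPushSeq (S : ShortComplex (ModSite.Mod O)) (P : ModSite.Mod O) :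
    ShortComplex (ModSite.Mod O_D) :=
  S.op.map (homPushOp f P)

theorem homPushSeq_shortExact {S : ShortComplex (ModSite.Mod O)} (hS : S.ShortExact) (I : ModSite.Mod O)
    [Injective I] : (homPushSeq f S I).ShortExact where
  exact := hS.op.exact.map_of_mono_of_preservesKernel (homPushOp f I) hS.op.mono_f inferInstance
  mono_f := haveI := hS.op.mono_f; (homPushOp f I).map_mono S.op.f
  epi_g := haveI := hS.mono_f; epi_homPushMap_app f S.f I

variable {G : ModSite.Mod O} (I : InjectiveResolution G)

/-- The complex computing the relative Ext. -/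
noncomputable abbrev cx (M : ModSite.Mod O) : CochainComplex (ModSite.Mod O_D) ℕ :=
  ((homPush f M).mapHomologicalComplex _).obj I.cocomplex

/-- Contravariance of the complexes. -/
noncomputable abbrev cxMap {A B : ModSite.Mod O} (g : A ⟶ B) : cx f I B ⟶ cx f I A :=
  (NatTrans.mapHomologicalComplex (homPushMap f g) (ComplexShape.up ℕ)).app I.cocomplex

theorem cxMap_comp {A B E : ModSite.Mod O} (g : A ⟶ B) (h : B ⟶ E) :
    cxMap f I h ≫ cxMap f I g = cxMap f I (g ≫ h) :=
  HomologicalComplex.hom_ext _ _ fun i => homPushMap_comp_app f g h (I.cocomplex.X i)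

/-- The short complex of complexes. -/
noncomputable abbrev cxSeq (S : ShortComplex (ModSite.Mod O)) :
    ShortComplex (CochainComplex (ModSite.Mod O_D) ℕ) :=
  ShortComplex.mk (cxMap f I S.g) (cxMap f I S.f)
    (HomologicalComplex.hom_ext _ _ fun i => (homPushSeq f S (I.cocomplex.X i)).zero)

theorem cxSeq_shortExact {S : ShortComplex (ModSite.Mod O)} (hS : S.ShortExact) :
    (cxSeq f I S).ShortExact :=
  shortExact_of_degreewise_shortExact _ fun i => homPushSeq_shortExact f hS (I.cocomplex.X i)

/-- The augmentation. -/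
noncomputable abbrev aug (M : ModSite.Mod O) : (homPush f M).obj G ⟶ (cx f I M).X 0 :=
  (homPush f M).map (I.ι.f 0)

theorem aug_comp (M : ModSite.Mod O) : aug f I M ≫ (cx f I M).d 0 1 = 0 := by
  show (homPush f M).map (I.ι.f 0) ≫ (homPush f M).map (I.cocomplex.d 0 1) = 0
  rw [← Functor.map_comp, I.ι_f_zero_comp_complex_d, Functor.map_zero]

/-- Degree zero. -/
noncomputable def z0 (M : ModSite.Mod O) : (homPush f M).obj G ⟶ (cx f I M).homology 0 :=
  (cx f I M).liftCycles (aug f I M) 1 (by simp) (aug_comp f I M) ≫ (cx f I M).homologyπ 0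

instance isIso_z0 (M : ModSite.Mod O) : IsIso (z0 f I M) := by
  haveI : IsIso ((cx f I M).liftCycles (aug f I M) 1 (by simp) (aug_comp f I M)) := by
    have hk : IsLimit (KernelFork.ofι (aug f I M) (aug_comp f I M)) :=
      KernelFork.mapIsLimit _ I.isLimitKernelFork (homPush f M)
    have hc := (cx f I M).cyclesIsKernel 0 1 (by simp)
    let e := IsLimit.conePointUniqueUpToIso hk hc
    have he : (cx f I M).liftCycles (aug f I M) 1 (by simp) (aug_comp f I M) = e.hom := by
      rw [← cancel_mono ((cx f I M).iCycles 0), HomologicalComplex.liftCycles_i]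
      exact (IsLimit.conePointUniqueUpToIso_hom_comp hk hc WalkingParallelPair.zero).symm
    rw [he]; infer_instance
  haveI : IsIso ((cx f I M).homologyπ 0) :=
    (cx f I M).isIso_homologyπ ((ComplexShape.up ℕ).prev 0) 0 rfl ((cx f I M).shape _ _ (by simp))
  exact IsIso.comp_isIso

theorem z0_natural {A B : ModSite.Mod O} (g : A ⟶ B) :
    z0 f I B ≫ homologyMap (cxMap f I g) 0 = (homPushMap f g).app G ≫ z0 f I A := by
  rw [z0, z0, Category.assoc, homologyπ_naturality, ← Category.assoc, ← Category.assoc]
  congr 1
  rw [← cancel_mono ((cx f I A).iCycles 0), Category.assoc, cyclesMap_i,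
    ← Category.assoc, liftCycles_i, Category.assoc, liftCycles_i]
  exact (homPushMap f g).naturality (I.ι.f 0)

end Groth.Agent.RelExtLib
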