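import Groth.Agent.RelExtLib.Basic

/-!
# Long exact sequence and acyclic resolutions for relative sheaf Ext in the first variable
-/

set_option autoImplicit false
set_option linter.unusedSectionVars false
set_option linter.style.haveILetI false
set_option backward.isDefEq.respectTransparency false
set_option backward.isDefEq.respectTransparency.types false

universe w v u

open CategoryTheory Limits Opposite HomologicalComplex
open Groth.Agent.ModSiteLib Groth.Agent.ModSiteLib.SetPull _root_.ModSiteLib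

namespace Groth.Agent.RelExtLib

section Conj

variable {A : Type u} [Category.{v} A] [Abelian A]

/-- Exactness is invariant under conjugation. -/
theorem exact_conj {x y z x' y' z' : A} {g : x ⟶ y} {h : y ⟶ z} {w : g ≫ h = 0}
    (he : (ShortComplex.mk g h w).Exact) (a : x' ≅ x) (b : y' ≅ y) (c : z' ≅ z)
    {g' : x' ⟶ y'} {h' : y' ⟶ z'} (hg : g' = a.hom ≫ g ≫ b.inv) (hh : h' = b.hom ≫ h ≫ c.inv) :
    ∃ w' : g' ≫ h' = 0, (ShortComplex.mk g' h' w').Exact := by
  subst hg hh
  refine ⟨by simp [reassoc_of% w], ShortComplex.exact_of_iso (ShortComplex.isoMk a.symm b.symm c.symm ?_ ?_) he⟩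
  · simp
  · simp

end Conj

section Syz

variable {A : Type u} [Category.{v} A] [Abelian A] {F : A} (L : ChainComplex A ℕ) (π : L.X 0 ⟶ F)
  (hπ : L.d 1 0 ≫ π = 0)

/-- The target of the outgoing map in degree `j`. -/
def outObj (L : ChainComplex A ℕ) (F : A) : ℕ → A
  | 0 => F
  | j + 1 => L.X j

/-- The outgoing map in degree `j`. -/
def outMap : ∀ j, L.X j ⟶ outObj L F j
  | 0 => π
  | j + 1 => L.d (j + 1) j

include hπ in
theorem d_outMap : ∀ j, L.d (j + 1) j ≫ outMap L π j = 0
  | 0 => hπ
  | _ + 1 => L.d_comp_d _ _ _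

/-- The syzygies. -/
noncomputable def syzObj : ℕ → A
  | 0 => F
  | j + 1 => kernel (outMap L π j)

/-- The projection to a syzygy. -/
noncomputable def syzP : ∀ j, L.X j ⟶ syzObj L π j
  | 0 => π
  | j + 1 => kernel.lift (outMap L π j) (L.d (j + 1) j) (d_outMap L π hπ j)

theorem kernel_syzP : ∀ j, kernel.ι (outMap L π j) ≫ syzP L π hπ j = 0
  | 0 => kernel.condition _
  | j + 1 => (cancel_mono (kernel.ι (outMap L π j))).1 (by
      rw [Category.assoc, zero_comp, syzP, kernel.lift_ι]
      exact kernel.condition _)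

/-- The short complexes of syzygies. -/
noncomputable abbrev syzSeq (j : ℕ) : ShortComplex A :=
  ShortComplex.mk (kernel.ι (outMap L π j)) (syzP L π hπ j) (kernel_syzP L π hπ j)

theorem syz_shortExact [Epi π] (hex0 : (ShortComplex.mk (L.d 1 0) π hπ).Exact)
    (hex : ∀ j : ℕ, L.ExactAt (j + 1)) : ∀ j, (syzSeq L π hπ j).ShortExact
  | 0 => ShortComplex.ShortExact.mk (mono_f := inferInstanceAs (Mono (kernel.ι _))) (epi_g := inferInstanceAs (Epi π))
      (ShortComplex.exact_kernel π)
  | j + 1 => by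
    have hj : (ShortComplex.mk (L.d (j + 1) j) (outMap L π j) (d_outMap L π hπ j)).Exact := by
      match j with
      | 0 => exact hex0
      | k + 1 => exact (L.exactAt_iff' (k + 1 + 1) (k + 1) k (by simp) (by simp)).1 (hex k)
    haveI : Epi (syzP L π hπ (j + 1)) := hj.epi_kernelLift
    refine ShortComplex.ShortExact.mk (mono_f := inferInstanceAs (Mono (kernel.ι _))) (epi_g := this) ?_
    refine ShortComplex.exact_of_f_is_kernel _ ?_
    exact isKernelOfComp (f := syzP L π hπ (j + 1)) (kernel.ι (outMap L π j)) (outMap L π (j + 1))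
      (kernelIsKernel (outMap L π (j + 1))) (kernel_syzP L π hπ (j + 1)) (kernel.lift_ι _ _ _)

end Syz

variable {C : Type u} [SmallCategory C] {J : GrothendieckTopology C} {O : Sheaf J CommRingCat.{u}}
  {D : Type u} [SmallCategory D] {K : GrothendieckTopology D} {O_D : Sheaf K CommRingCat.{u}}
  (f : ModSite.RMor O O_D)

attribute [local instance] hasSheafHom

variable [HasInjectiveResolutions (ModSite.Mod O)]

theorem rightDerived_eq {A B G : ModSite.Mod O} (g : A ⟶ B) [(homPush f A).Additive] [(homPush f B).Additive]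
    (I : InjectiveResolution G) (p : ℕ) :
    (NatTrans.rightDerived (homPushMap f g) p).app G =
      (I.isoRightDerivedObj (homPush f B) p).hom ≫ homologyMap (cxMap f I g) p ≫
        (I.isoRightDerivedObj (homPush f A) p).inv :=
  InjectiveResolution.rightDerived_app_eq _ I p

/-- The long exact sequence of relative Ext in the first variable. -/
theorem contravariant_longExact {S : ShortComplex (ModSite.Mod O)} (hS : S.ShortExact) (G : ModSite.Mod O)
    [(homPush f S.X₁).Additive] [(homPush f S.X₂).Additive] [(homPush f S.X₃).Additive] :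
    Mono ((NatTrans.rightDerived (homPushMap f S.g) 0).app G) ∧
    (∀ p : ℕ, ∃ w : (NatTrans.rightDerived (homPushMap f S.g) p).app G ≫
        (NatTrans.rightDerived (homPushMap f S.f) p).app G = 0, (ShortComplex.mk _ _ w).Exact) ∧
    ∃ δ : ∀ p : ℕ, ((homPush f S.X₁).rightDerived p).obj G ⟶ ((homPush f S.X₃).rightDerived (p + 1)).obj G,
      ∀ p : ℕ,
        (∃ w : (NatTrans.rightDerived (homPushMap f S.f) p).app G ≫ δ p = 0, (ShortComplex.mk _ _ w).Exact) ∧
        (∃ w : δ p ≫ (NatTrans.rightDerived (homPushMap f S.g) (p + 1)).app G = 0,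
          (ShortComplex.mk _ _ w).Exact) := by
  let I := injectiveResolution G
  have se := cxSeq_shortExact f I hS
  refine ⟨?_, fun p => ?_, fun p => (I.isoRightDerivedObj (homPush f S.X₁) p).hom ≫
    se.δ p (p + 1) (by simp) ≫ (I.isoRightDerivedObj (homPush f S.X₃) (p + 1)).inv, fun p => ⟨?_, ?_⟩⟩
  · haveI : Mono ((cxMap f I S.g).f 0) := ((homPushSeq_shortExact f hS (I.cocomplex.X 0))).mono_f
    haveI := mono_homologyMap_zero (cxMap f I S.g)
    rw [rightDerived_eq f S.g I 0]
    infer_instance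
  · exact exact_conj (se.homology_exact₂ p) (I.isoRightDerivedObj (homPush f S.X₃) p)
      (I.isoRightDerivedObj (homPush f S.X₂) p) (I.isoRightDerivedObj (homPush f S.X₁) p)
      (rightDerived_eq f S.g I p) (rightDerived_eq f S.f I p)
  · exact exact_conj (se.homology_exact₃ p (p + 1) (by simp)) (I.isoRightDerivedObj (homPush f S.X₂) p)
      (I.isoRightDerivedObj (homPush f S.X₁) p) (I.isoRightDerivedObj (homPush f S.X₃) (p + 1))
      (rightDerived_eq f S.f I p) rfl
  · exact exact_conj (se.homology_exact₁ p (p + 1) (by simp)) (I.isoRightDerivedObj (homPush f S.X₁) p)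
      (I.isoRightDerivedObj (homPush f S.X₃) (p + 1)) (I.isoRightDerivedObj (homPush f S.X₂) (p + 1))
      rfl (rightDerived_eq f S.g I (p + 1))

/-- The chain attached to a sequence of short exact sequences. -/
noncomputable def chainOf {G : ModSite.Mod O} (I : InjectiveResolution G) (Z E : ℕ → ModSite.Mod O)
    (ι : ∀ j, Z (j + 1) ⟶ E j) (q : ∀ j, E j ⟶ Z j) (w : ∀ j, ι j ≫ q j = 0)
    (hS : ∀ j, (ShortComplex.mk (ι j) (q j) (w j)).ShortExact)
    (hac : ∀ j n, IsZero ((cx f I (E j)).homology (n + 1))) :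
    Chain (fun j => cx f I (Z j)) (fun j => cx f I (E j)) where
  a j := cxMap f I (q j)
  b j := cxMap f I (ι j)
  w j := (cxSeq f I (ShortComplex.mk (ι j) (q j) (w j))).zero
  se j := by
    refine shortExact_of_degreewise_shortExact _ fun i => ?_
    exact homPushSeq_shortExact f (hS j) (I.cocomplex.X i)
  acyclic := hac

theorem chainOf_d {G : ModSite.Mod O} (I : InjectiveResolution G) (Z E : ℕ → ModSite.Mod O)
    (ι : ∀ j, Z (j + 1) ⟶ E j) (q : ∀ j, E j ⟶ Z j) (w : ∀ j, ι j ≫ q j = 0)
    (hS : ∀ j, (ShortComplex.mk (ι j) (q j) (w j)).ShortExact)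
    (hac : ∀ j n, IsZero ((cx f I (E j)).homology (n + 1))) (j : ℕ) :
    (chainOf f I Z E ι q w hS hac).d j = homologyMap (cxMap f I (q (j + 1) ≫ ι j)) 0 := by
  show homologyMap (cxMap f I (ι j)) 0 ≫ homologyMap (cxMap f I (q (j + 1))) 0 = _
  rw [← homologyMap_comp, cxMap_comp]

/-- Relative Ext is computed by a relatively acyclic resolution. -/
theorem nonempty_homology_iso_of_acyclic {F G : ModSite.Mod O} (L : ChainComplex (ModSite.Mod O) ℕ)
    (π : L.X 0 ⟶ F) [Epi π] (hπ : L.d 1 0 ≫ π = 0) (hex0 : (ShortComplex.mk (L.d 1 0) π hπ).Exact)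
    (hex : ∀ j : ℕ, L.ExactAt (j + 1))
    [∀ j : ℕ, (homPush f (L.X j)).Additive] [(homPush f F).Additive]
    (hL : ∀ (j p : ℕ), 1 ≤ p → IsZero (((homPush f (L.X j)).rightDerived p).obj G))
    (Cx : CochainComplex (ModSite.Mod O_D) ℕ) (e : ∀ j : ℕ, Cx.X j ≅ (homPush f (L.X j)).obj G)
    (hC : ∀ j : ℕ, Cx.d j (j + 1) ≫ (e (j + 1)).hom = (e j).hom ≫ (homPushMap f (L.d (j + 1) j)).app G)
    (i : ℕ) : Nonempty (Cx.homology i ≅ ((homPush f F).rightDerived i).obj G) := by
  let I := injectiveResolution G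
  let Ch := chainOf f I (syzObj L π) (fun j => L.X j) (fun j => kernel.ι (outMap L π j)) (syzP L π hπ)
    (kernel_syzP L π hπ) (syz_shortExact L π hπ hex0 hex)
    (fun j q => (hL j (q + 1) (by omega)).of_iso
        (I.isoRightDerivedObj (homPush f (L.X j)) (q + 1)).symm)
  obtain ⟨t⟩ := Ch.nonempty_homology_iso Cx (fun j => e j ≪≫ asIso (z0 f I (L.X j))) (fun j => by
    have hd : Ch.d j = homologyMap (cxMap f I (L.d (j + 1) j)) 0 := by
      refine (chainOf_d f I _ _ _ _ _ _ _ j).trans ?_
      exact congrArg (fun x => homologyMap (cxMap f I x) 0) (kernel.lift_ι _ _ _)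
    rw [hd, Iso.trans_hom, Iso.trans_hom, asIso_hom, asIso_hom, ← Category.assoc, hC, Category.assoc,
      Category.assoc, z0_natural]) i
  exact ⟨t ≪≫ (I.isoRightDerivedObj (homPush f F) i).symm⟩

end Groth.Agent.RelExtLib
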