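import Mathlib.Algebra.Homology.HomologySequence
import Mathlib.Algebra.Homology.HomologicalComplexAbelian

/-!
# Dimension shifting along short exact sequences of cochain complexes
-/

set_option autoImplicit false
set_option linter.unusedSectionVars false
set_option linter.style.haveILetI false
set_option backward.isDefEq.respectTransparency false

universe w v u

open CategoryTheory Limits HomologicalComplex

namespace Groth.Agent.RelExtLib

variable {A : Type u} [Category.{v} A] [Abelian A]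

/-- Short exact sequences of cochain complexes chained by their first and last terms, with acyclic middle terms. -/
structure Chain (K : ℕ → CochainComplex A ℕ) (M : ℕ → CochainComplex A ℕ) where
  a : ∀ j, K j ⟶ M j
  b : ∀ j, M j ⟶ K (j + 1)
  w : ∀ j, a j ≫ b j = 0
  se : ∀ j, (ShortComplex.mk (a j) (b j) (w j)).ShortExact
  acyclic : ∀ j q, IsZero ((M j).homology (q + 1))

variable {K M : ℕ → CochainComplex A ℕ} (D : Chain K M)

theorem Chain.isIso_δ (j q : ℕ) : IsIso ((D.se j).δ (q + 1) (q + 2) (by simp)) :=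
  (D.se j).isIso_δ (q + 1) (q + 2) (by simp) (D.acyclic j q) (D.acyclic j (q + 1))

theorem Chain.nonempty_shift (D : Chain K M) : ∀ m j : ℕ,
    Nonempty ((K j).homology (m + 1) ≅ (K (j + m)).homology 1)
  | 0, j => ⟨Iso.refl _⟩
  | m + 1, j => by
    obtain ⟨e⟩ := Chain.nonempty_shift D m (j + 1)
    haveI := D.isIso_δ j m
    rw [show j + (m + 1) = j + 1 + m by omega]
    exact ⟨(asIso ((D.se j).δ (m + 1) (m + 2) rfl)).symm ≪≫ e⟩

/-- Degree zero homology of the first map is injective. -/
theorem mono_homologyMap_zero {P Q : CochainComplex A ℕ} (φ : P ⟶ Q) [Mono (φ.f 0)] :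
    Mono (homologyMap φ 0) := by
  haveI : IsIso (P.homologyπ 0) :=
    P.isIso_homologyπ ((ComplexShape.up ℕ).prev 0) 0 rfl (P.shape _ _ (by simp))
  haveI : IsIso (Q.homologyπ 0) :=
    Q.isIso_homologyπ ((ComplexShape.up ℕ).prev 0) 0 rfl (Q.shape _ _ (by simp))
  haveI : Mono (cyclesMap φ 0) := by
    haveI : Mono (cyclesMap φ 0 ≫ Q.iCycles 0) := by
      rw [cyclesMap_i]; infer_instance
    exact mono_of_mono _ (Q.iCycles 0)
  haveI : Mono (P.homologyπ 0 ≫ homologyMap φ 0) := by
    rw [homologyπ_naturality]; infer_instance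
  rw [show homologyMap φ 0 = CategoryTheory.inv (P.homologyπ 0) ≫ (P.homologyπ 0 ≫ homologyMap φ 0) by simp]
  infer_instance

instance Chain.mono_a (j : ℕ) : Mono (homologyMap (D.a j) 0) := by
  haveI : Mono ((D.a j).f 0) :=
    (((shortExact_iff_degreewise_shortExact (ShortComplex.mk (D.a j) (D.b j) (D.w j))).1 (D.se j)) 0).mono_f
  exact mono_homologyMap_zero _

theorem Chain.exact₀ (j : ℕ) :
    (ShortComplex.mk (homologyMap (D.a j) 0) (homologyMap (D.b j) 0)
      (by rw [← homologyMap_comp, D.w, homologyMap_zero])).Exact :=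
  (D.se j).homology_exact₂ 0

/-- The differential on degree zero homology. -/
noncomputable def Chain.d (j : ℕ) : (M j).homology 0 ⟶ (M (j + 1)).homology 0 :=
  homologyMap (D.b j) 0 ≫ homologyMap (D.a (j + 1)) 0

theorem Chain.a_d (j : ℕ) : homologyMap (D.a j) 0 ≫ D.d j = 0 := by
  rw [Chain.d, ← Category.assoc, ← homologyMap_comp, D.w, homologyMap_zero, zero_comp]

theorem Chain.d_d (j : ℕ) : D.d j ≫ D.d (j + 1) = 0 := by
  show (homologyMap (D.b j) 0 ≫ homologyMap (D.a (j + 1)) 0) ≫ D.d (j + 1) = 0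
  rw [Category.assoc, D.a_d, comp_zero]

/-- `H⁰(K_j)` is the kernel of the differential. -/
noncomputable def Chain.isLimitKer (j : ℕ) :
    IsLimit (KernelFork.ofι (homologyMap (D.a j) 0) (D.a_d j)) :=
  haveI : Mono (ShortComplex.mk (homologyMap (D.a j) 0) (homologyMap (D.b j) 0)
      (by rw [← homologyMap_comp, D.w, homologyMap_zero])).f := D.mono_a j
  KernelFork.IsLimit.ofι' _ _ fun {T} t ht => KernelFork.IsLimit.lift' (D.exact₀ j).fIsKernel t
    ((cancel_mono (homologyMap (D.a (j + 1)) 0)).1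
      ((Category.assoc _ _ _).trans (ht.trans zero_comp.symm)))

theorem Chain.nonempty_homology (j : ℕ) :
    Nonempty ((ShortComplex.mk (D.d j) (D.d (j + 1)) (D.d_d j)).homology ≅ (K j).homology 1) := by
  let hk := D.isLimitKer (j + 1)
  have hfac : hk.lift (KernelFork.ofι (D.d j) (D.d_d j)) = homologyMap (D.b j) 0 := by
    rw [← cancel_mono (homologyMap (D.a (j + 1)) 0)]
    exact (Fork.IsLimit.lift_ι hk).trans rfl
  let δ := (D.se j).δ 0 1 (by simp)
  haveI hδ : Epi δ :=
    ((D.se j).homology_exact₁ 0 1 (by simp)).epi_f ((D.acyclic j 0).eq_of_tgt _ _)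
  let h : (ShortComplex.mk (D.d j) (D.d (j + 1)) (D.d_d j)).LeftHomologyData :=
    { K := (K (j + 1)).homology 0
      H := (K j).homology 1
      i := homologyMap (D.a (j + 1)) 0
      π := δ
      wi := D.a_d (j + 1)
      hi := hk
      wπ := by rw [hfac]; exact (D.se j).comp_δ 0 1 (by simp)
      hπ := by
        haveI : Epi (ShortComplex.mk _ _ ((D.se j).comp_δ 0 1 (by simp))).g := hδ
        refine CokernelCofork.IsColimit.ofπ' _ _ (fun {T} t ht => ?_)
        exact CokernelCofork.IsColimit.desc' ((D.se j).homology_exact₃ 0 1 _).gIsCokernel t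
          ((congrArg (· ≫ t) hfac).symm.trans ht) }
  exact ⟨h.homologyIso⟩

/-- The homology of a complex of degree zero homologies is the homology of the first complex. -/
theorem Chain.nonempty_homology_iso (C : CochainComplex A ℕ) (ε : ∀ j, C.X j ≅ (M j).homology 0)
    (hε : ∀ j, C.d j (j + 1) ≫ (ε (j + 1)).hom = (ε j).hom ≫ D.d j) :
    ∀ i, Nonempty (C.homology i ≅ (K 0).homology i) := by
  intro i
  match i with
  | 0 =>
    haveI : IsIso (C.homologyπ 0) :=
      C.isIso_homologyπ ((ComplexShape.up ℕ).prev 0) 0 rfl (C.shape _ _ (by simp))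
    exact ⟨(asIso (C.homologyπ 0)).symm ≪≫
      IsLimit.conePointsIsoOfNatIso (C.cyclesIsKernel 0 1 (by simp)) (D.isLimitKer 0)
        (parallelPair.ext (ε 0) (ε 1) (hε 0) (by simp))⟩
  | j + 1 =>
    obtain ⟨e₁⟩ := D.nonempty_homology j
    obtain ⟨e₂⟩ := D.nonempty_shift j 0
    rw [Nat.zero_add] at e₂
    let φ : C.sc' j (j + 1) (j + 1 + 1) ≅ ShortComplex.mk (D.d j) (D.d (j + 1)) (D.d_d j) :=
      ShortComplex.isoMk (ε j) (ε (j + 1)) (ε (j + 1 + 1)) (hε j).symm (hε (j + 1)).symm
    exact ⟨ShortComplex.homologyMapIso (C.isoSc' j (j + 1) (j + 1 + 1) (by simp) (by simp) ≪≫ φ) ≪≫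
      e₁ ≪≫ e₂.symm⟩

end Groth.Agent.RelExtLib
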